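import Mathlib

/-! Element orders of alternating and symmetric groups through cycle types. -/

set_option autoImplicit false

namespace CfsgLib.Spec

open Equiv Equiv.Perm

theorem mem_spectrum_perm_iff (n k : ℕ) :
    k ∈ Set.range (orderOf : Equiv.Perm (Fin n) → ℕ) ↔
      ∃ m : Multiset ℕ, m.sum ≤ n ∧ (∀ a ∈ m, 2 ≤ a) ∧ m.lcm = k := by
  constructor
  · rintro ⟨g, rfl⟩
    refine ⟨g.cycleType, ?_, fun a ha => two_le_of_mem_cycleType ha, lcm_cycleType g⟩
    simpa using sum_cycleType_le g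
  · rintro ⟨m, h1, h2, rfl⟩
    obtain ⟨g, hg⟩ := (Equiv.Perm.exists_with_cycleType_iff (Fin n) (m := m)).2 ⟨by simpa using h1, h2⟩
    exact ⟨g, by rw [← lcm_cycleType, hg]⟩

theorem mem_spectrum_alt_iff (n k : ℕ) :
    k ∈ Set.range (orderOf : alternatingGroup (Fin n) → ℕ) ↔
      ∃ m : Multiset ℕ, m.sum ≤ n ∧ (∀ a ∈ m, 2 ≤ a) ∧ Even (m.sum + Multiset.card m) ∧ m.lcm = k := by
  constructor
  · rintro ⟨g, rfl⟩
    refine ⟨(g : Perm (Fin n)).cycleType, ?_, fun a ha => two_le_of_mem_cycleType ha, ?_, ?_⟩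
    · simpa using sum_cycleType_le (g : Perm (Fin n))
    · have h := g.2
      rw [mem_alternatingGroup, sign_of_cycleType, neg_one_pow_eq_one_iff_even (by simp)] at h
      exact h
    · rw [lcm_cycleType, Subgroup.orderOf_coe]
  · rintro ⟨m, h1, h2, h3, rfl⟩
    obtain ⟨g, hg⟩ := (Equiv.Perm.exists_with_cycleType_iff (Fin n) (m := m)).2 ⟨by simpa using h1, h2⟩
    refine ⟨⟨g, ?_⟩, ?_⟩
    · rw [mem_alternatingGroup, sign_of_cycleType, hg, Even.neg_one_pow h3]
    · rw [← Subgroup.orderOf_coe, ← lcm_cycleType, hg]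

theorem exists_mem_of_prime_dvd_lcm {p : ℕ} (hp : p.Prime) (m : Multiset ℕ) (h : p ∣ m.lcm) :
    ∃ a ∈ m, p ∣ a := by
  induction m using Multiset.induction_on with
  | empty => simp at h; exact absurd h hp.one_lt.ne'
  | cons a m ih =>
    rw [Multiset.lcm_cons] at h
    rcases (Nat.Prime.dvd_lcm hp).1 h with h | h
    · exact ⟨a, Multiset.mem_cons_self _ _, h⟩
    · obtain ⟨b, hb, hpb⟩ := ih h
      exact ⟨b, Multiset.mem_cons_of_mem hb, hpb⟩

theorem even_sum_add_card_of_forall_odd (m : Multiset ℕ) (h : ∀ a ∈ m, Odd a) :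
    Even (m.sum + Multiset.card m) := by
  induction m using Multiset.induction_on with
  | empty => simp
  | cons a m ih =>
    have h1 := ih (fun b hb => h b (Multiset.mem_cons_of_mem hb))
    have h2 := h a (Multiset.mem_cons_self _ _)
    rw [Multiset.sum_cons, Multiset.card_cons]
    rw [Nat.even_iff] at h1 ⊢
    rw [Nat.odd_iff] at h2
    omega

/-- A table `T k` of pairs (lcm, parity) closed under adding a cycle contains all pairs of cycle types of
total length at most `k`. -/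
theorem mem_table_of_closed (N : ℕ) (T : ℕ → List (ℕ × ℕ))
    (h0 : ∀ k ≤ N, (1, 0) ∈ T k)
    (hstep : ∀ k ≤ N, ∀ a ≤ k, 2 ≤ a → ∀ x ∈ T (k - a), (Nat.lcm a x.1, (a + 1 + x.2) % 2) ∈ T k)
    (m : Multiset ℕ) (h2 : ∀ a ∈ m, 2 ≤ a) :
    ∀ k ≤ N, m.sum ≤ k → (m.lcm, (m.sum + Multiset.card m) % 2) ∈ T k := by
  induction m using Multiset.induction_on with
  | empty => intro k hk _; simpa using h0 k hk
  | cons a m ih =>
    intro k hk hs
    rw [Multiset.sum_cons] at hs
    have h1 := ih (fun b hb => h2 b (Multiset.mem_cons_of_mem hb)) (k - a) (by omega) (by omega)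
    have h3 := hstep k hk a (by omega) (h2 a (Multiset.mem_cons_self _ _)) _ h1
    rw [Multiset.lcm_cons, Multiset.sum_cons, Multiset.card_cons]
    have h4 : (a + m.sum + (Multiset.card m + 1)) % 2 = (a + 1 + (m.sum + Multiset.card m) % 2) % 2 := by omega
    rw [h4]
    exact h3

end CfsgLib.Spec
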